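import Mathlib.RingTheory.Flat.Basic
import Mathlib.RingTheory.Ideal.Quotient.Operations
import Mathlib.LinearAlgebra.TensorProduct.RightExactness
import Mathlib.RingTheory.Finiteness.Basic
import Mathlib.RingTheory.Nilpotent.Lemmas

/-!
# Descending an ideal along a family with universally exact equalizer

`B → ∏ C a ⇉ ∏ D a b` is exact after tensoring with any module, and the ideals `I a` have quotients flat
over `A`.  If the `I a` come from an ideal of `B` modulo a nilpotent ideal of `A`, they come from an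
ideal of `B`.
-/

set_option autoImplicit false
set_option linter.all false

universe u

open TensorProduct

noncomputable section

namespace GrothLib.FamDesc6

section OneAlgebra

variable {A B C : Type u} [CommRing A] [CommRing B] [CommRing C] [Algebra A B] [Algebra A C] [Algebra B C]
  [IsScalarTower A B C] (N : Ideal A) (J₁ : Ideal B) (I : Ideal C)

/-- Multiplication `C ⊗ N → C`. -/
def mulN : C ⊗[A] N →ₗ[A] C := TensorProduct.lift ((LinearMap.mul A C).compl₂ (Algebra.linearMap A C ∘ₗ N.subtype))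

@[simp] theorem mulN_tmul (c : C) (ν : N) : mulN N (c ⊗ₜ[A] ν) = c * algebraMap A C ν := by
  simp [mulN]

theorem mulN_mem (w : C ⊗[A] N) : mulN N w ∈ N.map (algebraMap A C) := by
  induction w using TensorProduct.induction_on with
  | zero => simp
  | tmul c ν => rw [mulN_tmul]; exact Ideal.mul_mem_left _ _ (Ideal.mem_map_of_mem _ ν.2)
  | add x y hx hy => rw [map_add]; exact add_mem hx hy

theorem exists_mulN_eq {z : C} (hz : z ∈ N.map (algebraMap A C)) :
    ∃ w : C ⊗[A] N, mulN N w = z := by
  rw [Ideal.map] at hz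
  induction hz using Submodule.span_induction with
  | mem x hx => obtain ⟨a, ha, rfl⟩ := hx; exact ⟨1 ⊗ₜ ⟨a, ha⟩, by simp⟩
  | zero => exact ⟨0, map_zero _⟩
  | add x y _ _ hx hy =>
    obtain ⟨v, rfl⟩ := hx; obtain ⟨w, rfl⟩ := hy; exact ⟨v + w, map_add _ _ _⟩
  | smul c x hxm hx =>
    obtain ⟨v, rfl⟩ := hx
    clear hxm
    refine ⟨c • v, ?_⟩
    induction v using TensorProduct.induction_on with
    | zero => simp
    | tmul d ν => simp [TensorProduct.smul_tmul', mul_assoc]
    | add x y hx hy => simp [smul_add, hx, hy, mul_add]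

/-- Tensors of members of a submodule with `N`. -/
def rel : C ⊗[A] N →ₗ[A] (C ⧸ I) ⊗[A] N := (Ideal.Quotient.mkₐ A I).toLinearMap.rTensor N

theorem rel_exact : Function.Exact ((Submodule.restrictScalars A I).subtype.rTensor N)
    (rel N I) := by
  refine _root_.rTensor_exact N ?_ (Ideal.Quotient.mkₐ_surjective A I)
  intro x
  simp [Ideal.Quotient.eq_zero_iff_mem]

/-- Over a flat quotient a relation of tensors is a tensor of relations. -/
theorem mem_range_of_mulN_mem [Module.Flat A (C ⧸ I)] {w : C ⊗[A] N} (hw : mulN N w ∈ I) :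
    w ∈ LinearMap.range ((Submodule.restrictScalars A I).subtype.rTensor N) := by
  refine (rel_exact N I w).1 ?_
  have hinj : Function.Injective (N.subtype.lTensor (C ⧸ I)) :=
    Module.Flat.lTensor_preserves_injective_linearMap N.subtype Subtype.val_injective
  apply hinj
  apply (TensorProduct.rid A (C ⧸ I)).injective
  have : ∀ v : C ⊗[A] N, TensorProduct.rid A (C ⧸ I) (N.subtype.lTensor (C ⧸ I) (rel N I v)) =
      Ideal.Quotient.mk I (mulN N v) := by
    intro v
    induction v using TensorProduct.induction_on with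
    | zero => simp
    | tmul c ν =>
      simp only [rel, LinearMap.rTensor_tmul, AlgHom.toLinearMap_apply, LinearMap.lTensor_tmul,
        TensorProduct.rid_tmul, Submodule.coe_subtype, mulN_tmul, Algebra.smul_def,
        Ideal.Quotient.mkₐ_eq_mk, map_mul, mul_comm]
      rw [mul_comm]
      rfl
    | add x y hx hy => simp [hx, hy]
  rw [this, map_zero, map_zero, Ideal.Quotient.eq_zero_iff_mem]
  exact hw

variable [Module.Flat A (C ⧸ I)]

/-- A relation modulo `N²` is a tensor of elements of `I + N C`. -/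
theorem mem_span_of_mulN_mem_sq {w : C ⊗[A] N} (hw : mulN N w ∈ I ⊔ (N * N).map (algebraMap A C)) :
    w ∈ LinearMap.range ((Submodule.restrictScalars A (I ⊔ N.map (algebraMap A C))).subtype.rTensor N) := by
  obtain ⟨i, hi, z, hz, hsum⟩ := Submodule.mem_sup.1 hw
  obtain ⟨w', hw', rfl⟩ : ∃ w' : C ⊗[A] N, w' ∈ LinearMap.range
      ((Submodule.restrictScalars A (I ⊔ N.map (algebraMap A C))).subtype.rTensor N) ∧ mulN N w' = z := by
    rw [Ideal.map_mul] at hz
    refine Submodule.mul_induction_on hz ?_ ?_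
    · intro x hx y hy
      obtain ⟨v, rfl⟩ := exists_mulN_eq N hy
      clear hy
      induction v using TensorProduct.induction_on with
      | zero => exact ⟨0, zero_mem _, by simp⟩
      | tmul d ν =>
        exact ⟨(x * d) ⊗ₜ ν, ⟨⟨x * d, Ideal.mul_mem_right _ _ (Ideal.mem_sup_right hx)⟩ ⊗ₜ ν, rfl⟩,
          by simp [mul_assoc]⟩
      | add v v' hv hv' =>
        obtain ⟨w, h1, h2⟩ := hv; obtain ⟨w', h1', h2'⟩ := hv'
        exact ⟨w + w', add_mem h1 h1', by simp [h2, h2', mul_add]⟩
    · rintro x y ⟨w, h1, rfl⟩ ⟨w', h1', rfl⟩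
      exact ⟨w + w', add_mem h1 h1', map_add _ _ _⟩
  have h := mem_range_of_mulN_mem N I (w := w - w') (by rw [map_sub, ← hsum, add_sub_cancel_right]; exact hi)
  obtain ⟨v, hv⟩ := h
  have : w = (w - w') + w' := by abel
  rw [this]
  refine add_mem ⟨(Submodule.inclusion (p := Submodule.restrictScalars A I)
    (p' := Submodule.restrictScalars A (I ⊔ N.map (algebraMap A C))) fun x hx => Ideal.mem_sup_left hx).rTensor N v, ?_⟩ hw'
  rw [← hv, ← LinearMap.rTensor_comp_apply]
  rfl

/-- The elements of `I + N² C` in `N C` lie in `N (I + N C)`. -/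
theorem mem_mul_of_mem_sq {z : C} (hz : z ∈ N.map (algebraMap A C))
    (hz' : z ∈ I ⊔ (N * N).map (algebraMap A C)) :
    z ∈ (I ⊔ N.map (algebraMap A C)) * N.map (algebraMap A C) := by
  obtain ⟨w, rfl⟩ := exists_mulN_eq N hz
  obtain ⟨v, rfl⟩ := mem_span_of_mulN_mem_sq N I hz'
  clear hz hz'
  induction v using TensorProduct.induction_on with
  | zero => simp
  | tmul x ν =>
    simp only [LinearMap.rTensor_tmul, Submodule.coe_subtype, mulN_tmul]
    exact Ideal.mul_mem_mul x.2 (Ideal.mem_map_of_mem _ ν.2)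
  | add x y hx hy =>
    simp only [map_add]
    exact add_mem hx hy

end OneAlgebra

section Theta

variable {A B : Type u} [CommRing A] [CommRing B] [Algebra A B] (N : Ideal A) (J₁ : Ideal B)
variable {E : Type u} [CommRing E] [Algebra A E] [Algebra B E] [IsScalarTower A B E] (I : Ideal E)

/-- The coefficient module. -/
abbrev Coef : Type u := (B ⧸ J₁) ⊗[A] N

/-- `E ⊗ N → E ⊗ ((B / J₁) ⊗ N)`. -/
def psi : E ⊗[A] N →ₗ[A] E ⊗[B] Coef N J₁ :=
  TensorProduct.lift
    (((TensorProduct.mk B E (Coef N J₁)).restrictScalars₁₂ A A).compl₂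
      (TensorProduct.mk A (B ⧸ J₁) N 1))

@[simp] theorem psi_tmul (c : E) (ν : N) : psi N J₁ (c ⊗ₜ[A] ν) = c ⊗ₜ[B] ((1 : B ⧸ J₁) ⊗ₜ[A] ν) := by
  simp [psi]

theorem psi_surjective : Function.Surjective (psi (E := E) N J₁) := by
  intro z
  induction z using TensorProduct.induction_on with
  | zero => exact ⟨0, map_zero _⟩
  | tmul c m =>
    induction m using TensorProduct.induction_on with
    | zero => exact ⟨0, by simp⟩
    | tmul q ν =>
      obtain ⟨b, rfl⟩ := Ideal.Quotient.mk_surjective q
      refine ⟨(c * algebraMap B E b) ⊗ₜ ν, ?_⟩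
      rw [psi_tmul, mul_comm, ← Algebra.smul_def, TensorProduct.smul_tmul, TensorProduct.smul_tmul']
      congr 2
      rw [Algebra.smul_def, mul_one]
      rfl
    | add x y hx hy =>
      obtain ⟨u, hu⟩ := hx; obtain ⟨v, hv⟩ := hy
      exact ⟨u + v, by rw [map_add, hu, hv, TensorProduct.tmul_add]⟩
  | add x y hx hy =>
    obtain ⟨u, hu⟩ := hx; obtain ⟨v, hv⟩ := hy
    exact ⟨u + v, by rw [map_add, hu, hv]⟩

theorem psi_eq_zero_of_mem {x : E} (hx : x ∈ J₁.map (algebraMap B E)) (ν : N) :
    psi N J₁ (x ⊗ₜ[A] ν) = 0 := by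
  rw [psi_tmul]
  rw [Ideal.map] at hx
  induction hx using Submodule.span_induction with
  | mem x hx =>
    obtain ⟨b, hb, rfl⟩ := hx
    rw [Algebra.algebraMap_eq_smul_one, TensorProduct.smul_tmul, TensorProduct.smul_tmul',
      show b • (1 : B ⧸ J₁) = 0 by rw [Algebra.smul_def, mul_one]; exact Ideal.Quotient.eq_zero_iff_mem.2 hb,
      TensorProduct.zero_tmul, TensorProduct.tmul_zero]
  | zero => rw [TensorProduct.zero_tmul]
  | add x y _ _ hx hy => rw [TensorProduct.add_tmul, hx, hy, add_zero]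
  | smul c x _ hx =>
    rw [← TensorProduct.smul_tmul', hx, smul_zero]

/-- Relations modulo `I + N² E` die in the coefficient module. -/
theorem psi_eq_zero_of_mulN_mem [Module.Flat A (E ⧸ I)]
    (hJ : I ⊔ N.map (algebraMap A E) ≤ J₁.map (algebraMap B E)) {w : E ⊗[A] N}
    (hw : mulN N w ∈ I ⊔ (N * N).map (algebraMap A E)) : psi N J₁ w = 0 := by
  obtain ⟨v, rfl⟩ := mem_span_of_mulN_mem_sq N I hw
  clear hw
  induction v using TensorProduct.induction_on with
  | zero => simp
  | tmul x ν => simpa using psi_eq_zero_of_mem N J₁ (hJ x.2) ν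
  | add x y hx hy => simp only [map_add, hx, hy, add_zero]

/-- Multiplication into `E / K` on the coefficient module. -/
def theta (K : Ideal E) (h : ∀ b ∈ J₁, ∀ ν : N, algebraMap B E b * algebraMap A E ν ∈ K) :
    E ⊗[B] Coef N J₁ →ₗ[B] E ⧸ K :=
  let μ₀ : B ⧸ J₁ →ₗ[B] (N →ₗ[A] E ⧸ K) :=
    Submodule.liftQ J₁
      (LinearMap.toSpanSingleton B (N →ₗ[A] E ⧸ K)
        ((Ideal.Quotient.mkₐ A K).toLinearMap ∘ₗ Algebra.linearMap A E ∘ₗ N.subtype))
      (fun b hb => by
        rw [LinearMap.mem_ker]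
        ext ν
        simp only [LinearMap.toSpanSingleton_apply, LinearMap.smul_apply, LinearMap.coe_comp,
          Function.comp_apply, LinearMap.zero_apply, AlgHom.toLinearMap_apply, Ideal.Quotient.mkₐ_eq_mk,
          Algebra.linearMap_apply, Submodule.coe_subtype, Algebra.smul_def]
        exact Ideal.Quotient.eq_zero_iff_mem.2 (h b hb ν))
  let μ : Coef N J₁ →ₗ[B] E ⧸ K := TensorProduct.AlgebraTensorModule.lift μ₀
  TensorProduct.lift (((LinearMap.mul B (E ⧸ K)).comp (Ideal.Quotient.mkₐ B K).toLinearMap).compl₂ μ)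

theorem theta_psi (K : Ideal E) (h : ∀ b ∈ J₁, ∀ ν : N, algebraMap B E b * algebraMap A E ν ∈ K)
    (w : E ⊗[A] N) : theta N J₁ K h (psi N J₁ w) = Ideal.Quotient.mk K (mulN N w) := by
  induction w using TensorProduct.induction_on with
  | zero => simp
  | tmul c ν =>
    rw [psi_tmul, mulN_tmul, map_mul, show (1 : B ⧸ J₁) = Ideal.Quotient.mk J₁ 1 from rfl]
    show Ideal.Quotient.mk K c * ((1 : B) • Ideal.Quotient.mk K (algebraMap A E ν)) = _
    rw [one_smul]
  | add x y hx hy => simp only [map_add, hx, hy]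

end Theta

section Family

variable {A B : Type u} [CommRing A] [CommRing B] [Algebra A B] {ι : Type*}
  {C : ι → Type u} [∀ a, CommRing (C a)] [∀ a, Algebra A (C a)] [∀ a, Algebra B (C a)]
  [∀ a, IsScalarTower A B (C a)]
  {D : ι → ι → Type u} [∀ a b, CommRing (D a b)] [∀ a b, Algebra A (D a b)] [∀ a b, Algebra B (D a b)]
  [∀ a b, IsScalarTower A B (D a b)]
  (l : ∀ a b, C a →ₐ[B] D a b) (r : ∀ a b, C b →ₐ[B] D a b) (I : ∀ a, Ideal (C a))

/-- The elements of `B` lying in every `I a` modulo `N`. -/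
def inter (N : Ideal A) : Ideal B := ⨅ a, (I a ⊔ N.map (algebraMap A (C a))).comap (algebraMap B (C a))

theorem map_algebraMap_le (N : Ideal A) {R S : Type u} [CommRing R] [CommRing S] [Algebra A R] [Algebra A S]
    (f : R →+* S) (hf : f.comp (algebraMap A R) = algebraMap A S) :
    (N.map (algebraMap A R)).map f = N.map (algebraMap A S) := by rw [Ideal.map_map, hf]

variable (heq : ∀ (M : Type u) [AddCommGroup M] [Module B M] (m : ∀ a, C a ⊗[B] M),
    (∀ a b, (l a b).toLinearMap.rTensor M (m a) = (r a b).toLinearMap.rTensor M (m b)) →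
    ∃ m₀ : M, ∀ a, (1 : C a) ⊗ₜ[B] m₀ = m a)
  (hcompat : ∀ a b, (I a).map (l a b).toRingHom = (I b).map (r a b).toRingHom)
  (hflat : ∀ a, Module.Flat A (C a ⧸ I a))
  (hflatD : ∀ a b, Module.Flat A (D a b ⧸ (I a).map (l a b).toRingHom))

include heq hcompat hflat hflatD in
/-- **The square-zero step.** -/
theorem le_map_inter_sq (N : Ideal A)
    (hN : ∀ a, I a ≤ (inter (B := B) I N).map (algebraMap B (C a))) :
    ∀ a, I a ≤ (inter (B := B) I (N * N)).map (algebraMap B (C a)) := by
  classical
  let J₁ := inter (B := B) I N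
  have hJ1 : ∀ b ∈ J₁, ∀ a, algebraMap B (C a) b ∈ I a ⊔ N.map (algebraMap A (C a)) := fun b hb a =>
    (Ideal.mem_iInf.1 hb) a
  have hNJ : ∀ a, I a ⊔ N.map (algebraMap A (C a)) ≤ J₁.map (algebraMap B (C a)) := fun a => by
    refine sup_le (hN a) ?_
    rw [IsScalarTower.algebraMap_eq A B (C a), ← Ideal.map_map]
    refine Ideal.map_mono (Ideal.map_le_iff_le_comap.2 fun x hx => Ideal.mem_iInf.2 fun a' => ?_)
    rw [Ideal.mem_comap, ← IsScalarTower.algebraMap_apply]
    exact Ideal.mem_sup_right (Ideal.mem_map_of_mem _ hx)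
  have key : ∀ j ∈ J₁, ∃ n ∈ N.map (algebraMap A B), j - n ∈ inter (B := B) I (N * N) := by
    intro j hj
    have hw : ∀ a, ∃ w : C a ⊗[A] N, algebraMap B (C a) j - mulN N w ∈ I a := fun a => by
      obtain ⟨i, hi, z, hz, hs⟩ := Submodule.mem_sup.1 (hJ1 j hj a)
      obtain ⟨w, rfl⟩ := exists_mulN_eq N hz
      exact ⟨w, by rw [← hs, add_sub_cancel_right]; exact hi⟩
    choose w hw using hw
    obtain ⟨m₀, hm⟩ := heq (Coef N J₁) (fun a => psi N J₁ (w a)) fun a b => by
      have hl : ∀ v : C a ⊗[A] N, (l a b).toLinearMap.rTensor _ (psi N J₁ v) =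
          psi N J₁ (((l a b).restrictScalars A).toLinearMap.rTensor N v) ∧
          mulN N (((l a b).restrictScalars A).toLinearMap.rTensor N v) = l a b (mulN N v) := fun v => by
        induction v using TensorProduct.induction_on with
        | zero => simp
        | tmul c ν => simp [IsScalarTower.algebraMap_apply A B (C a), IsScalarTower.algebraMap_apply A B (D a b)]
        | add x y hx hy => exact ⟨by simp only [map_add]; rw [hx.1, hy.1], by simp only [map_add]; rw [hx.2, hy.2]⟩
      have hr : ∀ v : C b ⊗[A] N, (r a b).toLinearMap.rTensor _ (psi N J₁ v) =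
          psi N J₁ (((r a b).restrictScalars A).toLinearMap.rTensor N v) ∧
          mulN N (((r a b).restrictScalars A).toLinearMap.rTensor N v) = r a b (mulN N v) := fun v => by
        induction v using TensorProduct.induction_on with
        | zero => simp
        | tmul c ν => simp [IsScalarTower.algebraMap_apply A B (C b), IsScalarTower.algebraMap_apply A B (D a b)]
        | add x y hx hy => exact ⟨by simp only [map_add]; rw [hx.1, hy.1], by simp only [map_add]; rw [hx.2, hy.2]⟩
      haveI := hflatD a b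
      rw [(hl _).1, (hr _).1, ← sub_eq_zero, ← map_sub]
      refine psi_eq_zero_of_mulN_mem N J₁ ((I a).map (l a b).toRingHom) (sup_le ?_ ?_) (Ideal.mem_sup_left ?_)
      · refine (Ideal.map_mono (hN a)).trans (le_of_eq ?_)
        rw [Ideal.map_map]
        congr 1
        exact (l a b).comp_algebraMap
      · have h2 := Ideal.map_mono (f := (l a b).toRingHom) (le_sup_right.trans (hNJ a))
        rw [Ideal.map_map, Ideal.map_map] at h2
        have e1 : (l a b).toRingHom.comp (algebraMap A (C a)) = algebraMap A (D a b) :=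
          ((l a b).restrictScalars A).comp_algebraMap
        have e2 : (l a b).toRingHom.comp (algebraMap B (C a)) = algebraMap B (D a b) := (l a b).comp_algebraMap
        rwa [e1, e2] at h2
      · rw [map_sub, (hl _).2, (hr _).2]
        have h1 : l a b (algebraMap B (C a) j - mulN N (w a)) ∈ (I a).map (l a b).toRingHom :=
          Ideal.mem_map_of_mem (l a b).toRingHom (hw a)
        have h2 : r a b (algebraMap B (C b) j - mulN N (w b)) ∈ (I a).map (l a b).toRingHom := by
          rw [hcompat a b]; exact Ideal.mem_map_of_mem (r a b).toRingHom (hw b)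
        have := Ideal.sub_mem _ h2 h1
        simpa [map_sub, AlgHom.commutes] using this
    obtain ⟨v, rfl⟩ := psi_surjective (E := B) N J₁ |> fun h => (TensorProduct.lid B (Coef N J₁)).surjective.comp h m₀
    refine ⟨mulN N v, mulN_mem N v, Ideal.mem_iInf.2 fun a => ?_⟩
    have hK : ∀ b ∈ J₁, ∀ ν : N, algebraMap B (C a) b * algebraMap A (C a) ν ∈
        I a ⊔ (N * N).map (algebraMap A (C a)) := fun b hb ν => by
      obtain ⟨i, hi, z, hz, hs⟩ := Submodule.mem_sup.1 (hJ1 b hb a)
      rw [← hs, add_mul, Ideal.map_mul]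
      exact Submodule.add_mem_sup (Ideal.mul_mem_right _ _ hi) (Ideal.mul_mem_mul hz (Ideal.mem_map_of_mem _ ν.2))
    have e : ∀ u : B ⊗[A] N, psi N J₁ (((IsScalarTower.toAlgHom A B (C a)).toLinearMap.rTensor N) u) =
          (1 : C a) ⊗ₜ[B] TensorProduct.lid B (Coef N J₁) (psi N J₁ u) ∧
        mulN N (((IsScalarTower.toAlgHom A B (C a)).toLinearMap.rTensor N) u) = algebraMap B (C a) (mulN N u) := by
      intro u
      induction u using TensorProduct.induction_on with
      | zero => simp
      | tmul c ν =>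
        refine ⟨?_, by simp [IsScalarTower.algebraMap_apply A B (C a)]⟩
        simp only [LinearMap.rTensor_tmul, AlgHom.toLinearMap_apply, IsScalarTower.coe_toAlgHom', psi_tmul,
          TensorProduct.lid_tmul]
        rw [Algebra.algebraMap_eq_smul_one, TensorProduct.smul_tmul]
      | add x y hx hy => simp [map_add, hx.1, hy.1, hx.2, hy.2, TensorProduct.tmul_add]
    have h1 := congrArg (theta N J₁ (I a ⊔ (N * N).map (algebraMap A (C a))) hK) ((e v).1.trans (hm a))
    rw [theta_psi, theta_psi, (e v).2, Ideal.Quotient.eq] at h1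
    rw [Ideal.mem_comap, map_sub]
    have := Ideal.add_mem _ (Ideal.mem_sup_left (hw a)) (Ideal.neg_mem_iff _ |>.2 h1)
    convert this using 1
    ring
  intro a x hx
  let J₂ := inter (B := B) I (N * N)
  have hJ : J₁ ≤ J₂ ⊔ N.map (algebraMap A B) := fun j hj => by
    obtain ⟨n, hn, hjn⟩ := key j hj
    exact Submodule.mem_sup.2 ⟨j - n, hjn, n, hn, sub_add_cancel _ _⟩
  have hN2 : (N * N).map (algebraMap A (C a)) ≤ J₂.map (algebraMap B (C a)) := by
    rw [IsScalarTower.algebraMap_eq A B (C a), ← Ideal.map_map]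
    refine Ideal.map_mono (Ideal.map_le_iff_le_comap.2 fun x hx => Ideal.mem_iInf.2 fun a' => ?_)
    rw [Ideal.mem_comap, ← IsScalarTower.algebraMap_apply]
    exact Ideal.mem_sup_right (Ideal.mem_map_of_mem _ hx)
  have hsplit : I a ⊔ N.map (algebraMap A (C a)) ≤ J₂.map (algebraMap B (C a)) ⊔ N.map (algebraMap A (C a)) := by
    refine (hNJ a).trans ((Ideal.map_mono hJ).trans (le_of_eq ?_))
    rw [Ideal.map_sup, Ideal.map_map, ← IsScalarTower.algebraMap_eq A B (C a)]
  obtain ⟨y, hy, z, hz, hs⟩ := Submodule.mem_sup.1 (hsplit (Ideal.mem_sup_left hx))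
  have hy' : y ∈ I a ⊔ (N * N).map (algebraMap A (C a)) :=
    (Ideal.map_le_iff_le_comap.2 fun b hb => (Ideal.mem_iInf.1 hb) a) hy
  haveI := hflat a
  have hz' := mem_mul_of_mem_sq N (I a) hz
    (by rw [eq_sub_of_add_eq' hs]; exact Ideal.sub_mem _ (Ideal.mem_sup_left hx) hy')
  rw [← hs]
  refine Ideal.add_mem _ hy ?_
  have h3 := Ideal.mul_mono_left hsplit hz'
  rw [Ideal.sup_mul, ← Ideal.map_mul] at h3
  exact sup_le Ideal.mul_le_left hN2 h3

include heq hcompat hflat hflatD in
/-- **Descent of ideals modulo a nilpotent ideal.** -/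
theorem le_map_inter_bot (N : Ideal A) (hnil : IsNilpotent N)
    (hN : ∀ a, I a ≤ (inter (B := B) I N).map (algebraMap B (C a))) :
    ∀ a, I a ≤ (inter (B := B) I (⊥ : Ideal A)).map (algebraMap B (C a)) := by
  obtain ⟨n, hn⟩ := hnil
  have key : ∀ k, ∀ a, I a ≤ (inter (B := B) I (N ^ 2 ^ k)).map (algebraMap B (C a)) := by
    intro k
    induction k with
    | zero => simpa using hN
    | succ k ih =>
      have := le_map_inter_sq l r I heq hcompat hflat hflatD _ ih
      rwa [← pow_add, ← two_mul, mul_comm 2, ← pow_succ] at this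
  have h0 : N ^ 2 ^ n = ⊥ := by
    rw [eq_bot_iff]
    exact (Ideal.pow_le_pow_right Nat.lt_two_pow_self.le).trans (le_of_eq hn)
  simpa [h0] using key n

end Family

end GrothLib.FamDesc6
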