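import Groth.Agent.Lib.PicGlue26.Base
import Groth.Agent.Lib.Rigidity.SmoothGroup
import Mathlib.AlgebraicGeometry.Morphisms.Flat
import Mathlib.AlgebraicGeometry.Geometrically.Connected
import Mathlib.Algebra.TrivSqZeroExt.Basic
import Mathlib.Algebra.Category.Ring.Constructions

/-!
# The universally exact equalizer of a proper smooth morphism with connected fibres
-/

set_option autoImplicit false
set_option linter.all false
set_option backward.isDefEq.respectTransparency false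
set_option maxHeartbeats 1000000

universe u

open CategoryTheory CategoryTheory.Limits AlgebraicGeometry Opposite TopologicalSpace TensorProduct

noncomputable section

namespace GrothLib.FamDesc6

variable {P X : Scheme.{u}} (π : P ⟶ X)

theorem bijective_app_snd [IsProper π] [Smooth π] [GeometricallyConnected π] {T : Scheme.{u}} (t : T ⟶ X)
    (U : T.Opens) : Function.Bijective ((pullback.snd π t).app U) := by
  haveI : IsProper (pullback.snd π t) := MorphismProperty.pullback_snd π t inferInstance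
  haveI : Smooth (pullback.snd π t) := MorphismProperty.pullback_snd π t inferInstance
  haveI : GeometricallyConnected (pullback.snd π t) := MorphismProperty.pullback_snd π t inferInstance
  refine PicGlue26.bijective_app (pullback.snd π t) (fun K _ _ k => ⟨?_, ?_⟩) U
  · haveI : Smooth (pullback.snd (pullback.snd π t) k) := MorphismProperty.pullback_snd _ k inferInstance
    exact Rigidity.isReduced_of_smooth (pullback.snd (pullback.snd π t) k)
  · exact pullback_of_geometrically GeometricallyConnected.geometrically_connectedSpace _ k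

theorem isAffineOpen_inf_over [IsSeparated π] {U : X.Opens} (hU : IsAffineOpen U) {V W : P.Opens}
    (hV : IsAffineOpen V) (hW : IsAffineOpen W) (hVU : V ≤ π ⁻¹ᵁ U) (hWU : W ≤ π ⁻¹ᵁ U) :
    IsAffineOpen (V ⊓ W) := by
  haveI : IsAffine U.toScheme := hU
  haveI : (π ⁻¹ᵁ U).toScheme.IsSeparated := ⟨by rw [← terminal.comp_from (π ∣_ U)]; infer_instance⟩
  let j := (π ⁻¹ᵁ U).ι
  have h : ∀ O : P.Opens, IsAffineOpen O → O ≤ π ⁻¹ᵁ U → IsAffineOpen (j ⁻¹ᵁ O) := fun O hO hle => by
    refine (j.isAffineOpen_iff_of_isOpenImmersion).1 ?_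
    rw [j.image_preimage_eq_opensRange_inf, Scheme.Opens.opensRange_ι, inf_eq_right.2 hle]
    exact hO
  have h2 := ((h V hV hVU).inf (h W hW hWU))
  have h3 := (j.isAffineOpen_iff_of_isOpenImmersion).2 h2
  rwa [← Scheme.Hom.preimage_inf, j.image_preimage_eq_opensRange_inf, Scheme.Opens.opensRange_ι,
    inf_eq_right.2 (inf_le_left.trans hVU)] at h3

/-- Sections over an open inside the preimage of `U` form an algebra over the sections over `U`. -/
abbrev algV {U : X.Opens} {W : P.Opens} (h : W ≤ π ⁻¹ᵁ U) : Algebra Γ(X, U) Γ(P, W) :=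
  (π.appLE U W h).hom.toAlgebra

/-- The algebra map of restriction. -/
def resAlg {U : X.Opens} {V W : P.Opens} (hV : V ≤ π ⁻¹ᵁ U) (hW : W ≤ π ⁻¹ᵁ U) (h : W ≤ V) :
    letI := algV π hV; letI := algV π hW; Γ(P, V) →ₐ[Γ(X, U)] Γ(P, W) :=
  letI := algV π hV; letI := algV π hW
  { (P.presheaf.map (homOfLE h).op).hom with
    commutes' := fun b => by
      show (π.appLE U V hV ≫ P.presheaf.map (homOfLE h).op) b = π.appLE U W hW b
      rw [Scheme.Hom.appLE_map] }

variable [IsProper π] [Smooth π] [GeometricallyConnected π]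

/-- **The universally exact equalizer.** -/
theorem exists_eq_of_compatible {U : X.Opens} (hU : IsAffineOpen U) {ι : Type u} (V : ι → P.Opens)
    (hVa : ∀ a, IsAffineOpen (V a)) (hle : ∀ a, V a ≤ π ⁻¹ᵁ U) (hcov : π ⁻¹ᵁ U ≤ iSup V)
    (M : Type u) [AddCommGroup M] [Module Γ(X, U) M] :
    letI := fun a => algV π (hle a)
    letI := fun a b => algV π (show V a ⊓ V b ≤ π ⁻¹ᵁ U from inf_le_left.trans (hle a))
    ∀ m : ∀ a, Γ(P, V a) ⊗[Γ(X, U)] M,
    (∀ a b, (resAlg π (hle a) (inf_le_left.trans (hle a)) (inf_le_left : V a ⊓ V b ≤ V a)).toLinearMap.rTensor M (m a) =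
      (resAlg π (hle b) (inf_le_left.trans (hle a)) (inf_le_right : V a ⊓ V b ≤ V b)).toLinearMap.rTensor M (m b)) →
    ∃ m₀ : M, ∀ a, (1 : Γ(P, V a)) ⊗ₜ[Γ(X, U)] m₀ = m a := by
  letI := fun a => algV π (hle a)
  letI := fun a b => algV π (show V a ⊓ V b ≤ π ⁻¹ᵁ U from inf_le_left.trans (hle a))
  intro m hm
  letI : Module Γ(X, U)ᵐᵒᵖ M := Module.compHom M ((RingEquiv.toOpposite Γ(X, U)).symm : Γ(X, U)ᵐᵒᵖ →+* Γ(X, U))
  haveI : IsCentralScalar Γ(X, U) M := ⟨fun r x => rfl⟩
  let B := Γ(X, U)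
  let B' := TrivSqZeroExt B M
  let φ : B →+* B' := algebraMap B B'
  let T := Spec (CommRingCat.of B')
  let t : T ⟶ X := Spec.map (CommRingCat.ofHom φ) ≫ hU.fromSpec
  let g := pullback.fst π t
  let q := pullback.snd π t
  have H : IsPullback g q π t := IsPullback.of_hasPullback π t
  have htU : t ⁻¹ᵁ U = ⊤ := by
    show Spec.map (CommRingCat.ofHom φ) ⁻¹ᵁ (hU.fromSpec ⁻¹ᵁ U) = ⊤
    rw [hU.fromSpec_preimage_self]; rfl
  have htop : (⊤ : T.Opens) ≤ t ⁻¹ᵁ U := htU.ge
  have ht : t.appLE U ⊤ htop ≫ (Scheme.ΓSpecIso (CommRingCat.of B')).hom = CommRingCat.ofHom φ := by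
    rw [← Scheme.Hom.appLE_comp_appLE _ _ U ⊤ ⊤ (by rw [hU.fromSpec_preimage_self]) le_top]
    rw [show hU.fromSpec.appLE U ⊤ (by rw [hU.fromSpec_preimage_self]) = (Scheme.ΓSpecIso _).inv from ?_]
    · rw [Category.assoc, show (Spec.map (CommRingCat.ofHom φ)).appLE ⊤ ⊤ le_top = (Spec.map (CommRingCat.ofHom φ)).appTop from Scheme.Hom.appLE_eq_app _, Scheme.ΓSpecIso_naturality]; exact Iso.inv_hom_id_assoc _ _
    · simp only [Scheme.Hom.appLE, IsAffineOpen.fromSpec_app_self, Category.assoc, ← Functor.map_comp]; convert Category.comp_id _; exact (Spec _).presheaf.map_id _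
  let c : ∀ W : P.Opens, CommRingCat.of B' ⟶ Γ(pullback π t, g ⁻¹ᵁ W) := fun W =>
    (Scheme.ΓSpecIso (CommRingCat.of B')).inv ≫ q.appLE ⊤ (g ⁻¹ᵁ W) le_top
  have hpo : ∀ (W : P.Opens) (hW : W ≤ π ⁻¹ᵁ U), IsAffineOpen W →
      letI := algV π hW
      IsPushout (CommRingCat.ofHom (algebraMap B Γ(P, W))) (CommRingCat.ofHom φ) (g.app W) (c W) := by
    intro W hW hWa
    letI := algV π hW
    have hUY : g ⁻¹ᵁ W = g ⁻¹ᵁ W ⊓ q ⁻¹ᵁ (⊤ : T.Opens) := by simp
    have h1 := (isIso_pushoutSection_iff H (US := U) (UT := ⊤) (UX := W) (UY := g ⁻¹ᵁ W) htop hW hUY).1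
      (isIso_pushoutSection_of_isAffineOpen H htop hW hUY hU (isAffineOpen_top T) hWa)
    rw [show g.app W = g.appLE W (g ⁻¹ᵁ W) le_rfl from (Scheme.Hom.appLE_eq_app _).symm]
    refine h1.of_iso (Iso.refl _) (Iso.refl _) (Scheme.ΓSpecIso _) (Iso.refl _) ?_ ?_ ?_ ?_
    · simp [RingHom.algebraMap_toAlgebra]
    · simpa using ht
    · simp
    · simp [c]
  let e : ∀ (W : P.Opens) (hW : W ≤ π ⁻¹ᵁ U) (hWa : IsAffineOpen W),
      letI := algV π hW
      CommRingCat.of (Γ(P, W) ⊗[B] B') ≅ Γ(pullback π t, g ⁻¹ᵁ W) := fun W hW hWa =>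
    letI := algV π hW
    (CommRingCat.isPushout_tensorProduct B Γ(P, W) B').isoIsPushout _ _ (hpo W hW hWa)
  have hV2 : ∀ a b, IsAffineOpen (V a ⊓ V b) := fun a b => isAffineOpen_inf_over π hU (hVa a) (hVa b) (hle a) (hle b)
  have hnat : ∀ (W W' : P.Opens) (hW : W ≤ π ⁻¹ᵁ U) (hW' : W' ≤ π ⁻¹ᵁ U) (hWa : IsAffineOpen W)
      (hWa' : IsAffineOpen W') (h : W' ≤ W),
      letI := algV π hW; letI := algV π hW'
      ∀ z : Γ(P, W) ⊗[B] B', (pullback π t).presheaf.map (homOfLE (g.preimage_mono h)).op ((e W hW hWa).hom z) =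
        (e W' hW' hWa').hom ((resAlg π hW hW' h).toLinearMap.rTensor B' z) := by
    intro W W' hW hW' hWa hWa' h
    letI := algV π hW; letI := algV π hW'
    intro z
    induction z using TensorProduct.induction_on with
    | zero => simp
    | tmul x b =>
      have hl : ∀ (O : P.Opens) (hO : O ≤ π ⁻¹ᵁ U) (hOa : IsAffineOpen O),
          letI := algV π hO
          ∀ (y : Γ(P, O)) (b : B'), (e O hO hOa).hom (y ⊗ₜ[B] b) = g.app O y * c O b := by
        intro O hO hOa
        letI := algV π hO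
        intro y b
        have h1 := ConcreteCategory.congr_hom
          ((CommRingCat.isPushout_tensorProduct B Γ(P, O) B').inl_isoIsPushout_hom _ _ (hpo O hO hOa)) y
        have h2 := ConcreteCategory.congr_hom
          ((CommRingCat.isPushout_tensorProduct B Γ(P, O) B').inr_isoIsPushout_hom _ _ (hpo O hO hOa)) b
        rw [show y ⊗ₜ[B] b = (y ⊗ₜ[B] (1 : B')) * ((1 : Γ(P, O)) ⊗ₜ[B] b) by simp]
        erw [map_mul]
        exact congrArg₂ (· * ·) h1 h2
      rw [LinearMap.rTensor_tmul]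
      erw [hl W hW hWa x b, hl W' hW' hWa' ((resAlg π hW hW' h).toLinearMap x) b, map_mul]
      congr 1
      · exact ConcreteCategory.congr_hom (g.naturality (homOfLE h).op).symm x
      · have : c W ≫ (pullback π t).presheaf.map (homOfLE (g.preimage_mono h)).op = c W' := by
          simp [c, Scheme.Hom.appLE_map]
        exact ConcreteCategory.congr_hom this b
    | add x y hx hy =>
      erw [map_add, map_add, map_add, map_add]
      exact congrArg₂ (· + ·) hx hy
  let inM : M →ₗ[B] B' := TrivSqZeroExt.inrHom B M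
  let δ : ∀ a, Γ(P, V a) ⊗[B] B' := fun a => inM.lTensor _ (m a)
  let sf : ∀ a, Γ(pullback π t, g ⁻¹ᵁ V a) := fun a => (e _ (hle a) (hVa a)).hom (δ a)
  have hcovT : (⊤ : (pullback π t).Opens) ≤ iSup fun a => g ⁻¹ᵁ V a := by
    intro x _
    have hx : π (g x) ∈ U := by
      have h0 : q x ∈ t ⁻¹ᵁ U := htop trivial
      rw [← Scheme.Hom.comp_apply, H.w, Scheme.Hom.comp_apply]
      exact h0
    obtain ⟨a, ha⟩ := Opens.mem_iSup.1 (hcov hx)
    exact Opens.mem_iSup.2 ⟨a, ha⟩
  have hcompat : TopCat.Presheaf.IsCompatible (pullback π t).sheaf.1 (fun a => g ⁻¹ᵁ V a) sf := by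
    intro a b
    have ha := hnat (V a) (V a ⊓ V b) (hle a) (inf_le_left.trans (hle a)) (hVa a) (hV2 a b) inf_le_left (δ a)
    have hb := hnat (V b) (V a ⊓ V b) (hle b) (inf_le_left.trans (hle a)) (hVa b) (hV2 a b) inf_le_right (δ b)
    refine ha.trans (Eq.trans ?_ hb.symm)
    congr 1
    have hc : ∀ (O O' : P.Opens) (hO : O ≤ π ⁻¹ᵁ U) (hO' : O' ≤ π ⁻¹ᵁ U) (h : O' ≤ O),
        letI := algV π hO; letI := algV π hO'
        ∀ z : Γ(P, O) ⊗[B] M, (resAlg π hO hO' h).toLinearMap.rTensor B' (inM.lTensor _ z) =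
          inM.lTensor _ ((resAlg π hO hO' h).toLinearMap.rTensor M z) := by
      intro O O' hO hO' h
      letI := algV π hO; letI := algV π hO'
      intro z
      rw [← LinearMap.comp_apply, ← LinearMap.comp_apply, LinearMap.rTensor_comp_lTensor,
        LinearMap.lTensor_comp_rTensor]
    erw [hc (V a) (V a ⊓ V b) (hle a) (inf_le_left.trans (hle a)) inf_le_left (m a),
      hc (V b) (V a ⊓ V b) (hle b) (inf_le_left.trans (hle a)) inf_le_right (m b), hm a b]
  obtain ⟨s, hs, -⟩ := (pullback π t).sheaf.existsUnique_gluing' (fun a => g ⁻¹ᵁ V a) ⊤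
    (fun a => homOfLE le_top) hcovT sf hcompat
  obtain ⟨b₀, hb₀⟩ := (bijective_app_snd π t ⊤).2 s
  let b' : B' := (Scheme.ΓSpecIso (CommRingCat.of B')).hom b₀
  refine ⟨b'.snd, fun a => ?_⟩
  have h1 : (e _ (hle a) (hVa a)).hom ((1 : Γ(P, V a)) ⊗ₜ[B] b') = (e _ (hle a) (hVa a)).hom (δ a) := by
    refine Eq.trans ?_ (hs a)
    have h2 := ConcreteCategory.congr_hom
      ((CommRingCat.isPushout_tensorProduct B Γ(P, V a) B').inr_isoIsPushout_hom _ _ (hpo _ (hle a) (hVa a))) b'
    refine h2.trans ?_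
    rw [← hb₀]
    simp [c, b', Scheme.Hom.appLE]
    rfl
  have h3 := congrArg ((TrivSqZeroExt.sndHom B M).lTensor Γ(P, V a))
    ((ConcreteCategory.bijective_of_isIso (e _ (hle a) (hVa a)).hom).1 h1)
  simp only [δ, LinearMap.lTensor_tmul, ← LinearMap.lTensor_comp_apply] at h3
  rw [← LinearMap.comp_apply, ← LinearMap.lTensor_comp, show TrivSqZeroExt.sndHom B M ∘ₗ inM = LinearMap.id from rfl, LinearMap.lTensor_id] at h3
  exact h3

end GrothLib.FamDesc6
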