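import Groth.Agent.Lib.FamDesc6.Algebra
import Groth.Agent.Lib.FamDesc6.Equalizer
import Groth.Agent.Lib.BlowUp.IdealComap
import Groth.Agent.Lib.AlgSp.FppfDescent
import Groth.Agent.Lib.DescElem.Basic
import Groth.Agent.Lib.DiagGrp.KernelFP
import Mathlib.AlgebraicGeometry.IdealSheaf.Functorial

/-!
# Descending closed subschemes along proper smooth morphisms with connected fibres
-/

set_option autoImplicit false
set_option linter.all false
set_option backward.isDefEq.respectTransparency false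
set_option maxHeartbeats 1000000

universe u

open CategoryTheory CategoryTheory.Limits AlgebraicGeometry Opposite TopologicalSpace

noncomputable section

namespace GrothLib.FamDesc6

open Scheme (IdealSheafData)

theorem flat_of_comp_of_flat_surjective {A B C : Scheme.{u}} (f : A ⟶ B) (g : B ⟶ C) [Flat f] [Surjective f]
    [Flat (f ≫ g)] : Flat g := by
  refine Flat.of_stalkMap g fun b => ?_
  obtain ⟨a, rfl⟩ := f.surjective b
  have h : (((f ≫ g).stalkMap a).hom).Flat := Flat.stalkMap (f ≫ g) a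
  rw [Scheme.Hom.stalkMap_comp, CommRingCat.hom_comp] at h
  have : IsLocalHom (f.stalkMap a).hom := f.toLRSHom.prop a
  exact GrothLib.DescElem.ringHom_flat_of_comp _ _
    (GrothLib.DescElem.ringHom_faithfullyFlat_of_flat _ (Flat.stalkMap f a)) h

section Faithful

variable {V T : Scheme.{u}} (c : V ⟶ T) [Flat c] [LocallyOfFinitePresentation c] [Surjective c]

theorem ker_eq_bot_of_fppf : c.ker = ⊥ := by
  rw [← Scheme.isIso_subschemeι_iff_eq_bot]
  let s : V ⟶ pullback c.imageι c := pullback.lift c.toImage (𝟙 _) (by rw [c.toImage_imageι, Category.id_comp])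
  haveI : IsIso (pullback.snd c.imageι c) := by
    haveI : IsSplitEpi (pullback.snd c.imageι c) := ⟨⟨⟨s, pullback.lift_snd _ _ _⟩⟩⟩
    exact isIso_of_mono_of_isSplitEpi _
  exact AlgSp.fppfDescends_isomorphisms c.imageι c (pullback.fst _ _) (pullback.snd _ _)
    (IsPullback.of_hasPullback _ _) inferInstance inferInstance inferInstance ‹IsIso (pullback.snd c.imageι c)›

/-- Inverse image of ideal sheaves along an fppf cover is injective. -/
theorem eq_of_comap_eq {J₁ J₂ : T.IdealSheafData} (h : J₁.comap c = J₂.comap c) : J₁ = J₂ := by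
  have key : ∀ J : T.IdealSheafData, (J.comap c).map c = J := fun J => by
    refine le_antisymm ?_ (J.le_map_comap c)
    rw [Scheme.IdealSheafData.map, ← J.comapIso_hom_fst c, Category.assoc, pullback.condition, ← Category.assoc,
      Scheme.Hom.ker_comp, ker_eq_bot_of_fppf ((J.comapIso c).hom ≫ pullback.snd c J.subschemeι),
      IdealSheafData.map_bot, J.ker_subschemeι]
  rw [← key J₁, h, key J₂]

end Faithful

section Closed

variable {S X P : Scheme.{u}} (p : X ⟶ S) [LocallyOfFiniteType p] (π : P ⟶ X) [IsProper π] [Smooth π]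
  [GeometricallyConnected π] (W : P.IdealSheafData)

theorem lfp_subschemeι [LocallyOfFinitePresentation (W.subschemeι ≫ π ≫ p)] :
    LocallyOfFinitePresentation W.subschemeι :=
  DiagGrp.lfp_of_comp_of_lft W.subschemeι (π ≫ p) inferInstance inferInstance

omit [IsProper π] [Smooth π] [GeometricallyConnected π] [LocallyOfFiniteType p] in
/-- The sections of a closed subscheme over an affine open are flat over the base. -/
theorem flat_quotient [Flat (W.subschemeι ≫ π ≫ p)] {V : S.Opens} (hV : IsAffineOpen V) {O : P.Opens}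
    (hO : IsAffineOpen O) (e : O ≤ (π ≫ p) ⁻¹ᵁ V) [Algebra Γ(S, V) Γ(P, O)]
    (he : algebraMap Γ(S, V) Γ(P, O) = ((π ≫ p).appLE V O e).hom) :
    Module.Flat Γ(S, V) (Γ(P, O) ⧸ W.ideal ⟨O, hO⟩) := by
  have h : ((W.subschemeι ≫ π ≫ p).appLE V (W.subschemeι ⁻¹ᵁ O) (W.subschemeι.preimage_mono e)).hom.Flat :=
    HasRingHomProperty.appLE @Flat _ inferInstance ⟨V, hV⟩ ⟨_, hO.preimage W.subschemeι⟩ _
  rw [show (W.subschemeι ≫ π ≫ p).appLE V (W.subschemeι ⁻¹ᵁ O) (W.subschemeι.preimage_mono e) =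
      (π ≫ p).appLE V O e ≫ W.subschemeι.app O by
    rw [Scheme.Hom.app_eq_appLE, Scheme.Hom.appLE_comp_appLE]] at h
  let f := (W.subschemeι.app O).hom
  letI : Algebra Γ(S, V) Γ(W.subscheme, W.subschemeι ⁻¹ᵁ O) :=
    ((π ≫ p).appLE V O e ≫ W.subschemeι.app O).hom.toAlgebra
  haveI : Module.Flat Γ(S, V) Γ(W.subscheme, W.subschemeι ⁻¹ᵁ O) := h
  let fₐ : Γ(P, O) →ₐ[Γ(S, V)] Γ(W.subscheme, W.subschemeι ⁻¹ᵁ O) :=
    { f with commutes' := fun r => by rw [he]; rfl }
  have hk : RingHom.ker fₐ = W.ideal ⟨O, hO⟩ := W.ker_subschemeι_app ⟨O, hO⟩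
  have hs : Function.Surjective fₐ := W.subschemeι.app_surjective O hO
  exact Module.Flat.of_linearEquiv ((Ideal.quotientEquivAlgOfEq Γ(S, V) hk.symm).trans
    (Ideal.quotientKerAlgEquivOfSurjective hs)).toLinearEquiv

omit [IsProper π] [Smooth π] [GeometricallyConnected π] in
theorem fg_ideal [LocallyOfFinitePresentation (W.subschemeι ≫ π ≫ p)] [LocallyOfFiniteType π] {O : P.Opens}
    (hO : IsAffineOpen O) : (W.ideal ⟨O, hO⟩).FG := by
  haveI : LocallyOfFinitePresentation W.subschemeι :=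
    DiagGrp.lfp_of_comp_of_lft W.subschemeι (π ≫ p) inferInstance inferInstance
  have h : (W.subschemeι.appLE O (W.subschemeι ⁻¹ᵁ O) le_rfl).hom.FinitePresentation :=
    HasRingHomProperty.appLE @LocallyOfFinitePresentation _ inferInstance ⟨O, hO⟩ ⟨_, hO.preimage W.subschemeι⟩ _
  rw [Scheme.Hom.appLE_eq_app] at h
  rw [← W.ker_subschemeι_app ⟨O, hO⟩]
  algebraize [(W.subschemeι.app O).hom]
  exact Algebra.FinitePresentation.ker_fG_of_surjective
    (Algebra.ofId Γ(P, O) Γ(W.subscheme, W.subschemeι ⁻¹ᵁ O)) (W.subschemeι.app_surjective O hO)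

/-- **Descent of a closed subscheme which is constant modulo the nilradical.** -/
theorem comap_map_eq [Flat (W.subschemeι ≫ π ≫ p)] [LocallyOfFinitePresentation (W.subschemeι ≫ π ≫ p)]
    (Z₁ : X.IdealSheafData) (hZ₁ : Z₁.comap π = W ⊔ S.nilradical.comap (π ≫ p)) :
    (W.map π).comap π = W := by
  refine le_antisymm (IdealSheafData.comap_map_le _ _) ?_
  have hloc : ∀ x : P, ∃ O : P.affineOpens, x ∈ O.1 ∧ W.ideal O ≤ ((W.map π).comap π).ideal O := by
    intro x
    obtain ⟨V, hV, hxV, -⟩ := exists_isAffineOpen_mem_and_subset (show p (π x) ∈ (⊤ : S.Opens) from trivial)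
    obtain ⟨U, hU, hxU, hUV⟩ := exists_isAffineOpen_mem_and_subset (show π x ∈ p ⁻¹ᵁ V from hxV)
    obtain ⟨s, hsfin, hs⟩ := isCompact_iff_finite_and_eq_biUnion_affineOpens.1
      (π.isCompact_preimage hU.isCompact)
    haveI : Finite s := hsfin.to_subtype
    have hle : ∀ a : s, (a.1.1 : P.Opens) ≤ π ⁻¹ᵁ U := fun a =>
      (le_iSup₂ (f := fun (i : P.affineOpens) (_ : i ∈ s) => i.1) a.1 a.2).trans hs.ge
    have hcov : π ⁻¹ᵁ U ≤ ⨆ a : s, a.1.1 := hs.le.trans
      (iSup₂_le fun O hO => le_iSup (fun a : s => a.1.1) ⟨O, hO⟩)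
    obtain ⟨a₀, ha₀⟩ := Opens.mem_iSup.1 (hcov (show x ∈ π ⁻¹ᵁ U from hxU))
    refine ⟨a₀.1, ha₀, ?_⟩
    have hV2 : ∀ a b : s, IsAffineOpen (a.1.1 ⊓ b.1.1) := fun a b =>
      isAffineOpen_inf_over π hU a.1.2 b.1.2 (hle a) (hle b)
    have hle2 : ∀ a b : s, a.1.1 ⊓ b.1.1 ≤ π ⁻¹ᵁ U := fun a b => inf_le_left.trans (hle a)
    letI algU : Algebra Γ(S, V) Γ(X, U) := (p.appLE V U hUV).hom.toAlgebra
    letI algC := fun a : s => algV π (hle a)
    letI algD := fun a b : s => algV π (hle2 a b)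
    letI algAC : ∀ a : s, Algebra Γ(S, V) Γ(P, a.1.1) := fun a =>
      ((algebraMap Γ(X, U) Γ(P, a.1.1)).comp (algebraMap Γ(S, V) Γ(X, U))).toAlgebra
    letI algAD : ∀ a b : s, Algebra Γ(S, V) Γ(P, a.1.1 ⊓ b.1.1) := fun a b =>
      ((algebraMap Γ(X, U) Γ(P, a.1.1 ⊓ b.1.1)).comp (algebraMap Γ(S, V) Γ(X, U))).toAlgebra
    haveI : ∀ a : s, IsScalarTower Γ(S, V) Γ(X, U) Γ(P, a.1.1) := fun a => .of_algebraMap_eq' rfl
    haveI : ∀ a b : s, IsScalarTower Γ(S, V) Γ(X, U) Γ(P, a.1.1 ⊓ b.1.1) := fun a b => .of_algebraMap_eq' rfl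
    let I : ∀ a : s, Ideal Γ(P, a.1.1) := fun a => W.ideal a.1
    let l := fun a b : s => resAlg π (hle a) (hle2 a b) (inf_le_left : a.1.1 ⊓ b.1.1 ≤ a.1.1)
    let r := fun a b : s => resAlg π (hle b) (hle2 a b) (inf_le_right : a.1.1 ⊓ b.1.1 ≤ b.1.1)
    have hl : ∀ a b, (I a).map (l a b).toRingHom = W.ideal ⟨a.1.1 ⊓ b.1.1, hV2 a b⟩ := fun a b =>
      W.map_ideal (U := ⟨_, hV2 a b⟩) (V := a.1) (show a.1.1 ⊓ b.1.1 ≤ a.1.1 from inf_le_left)
    have hr : ∀ a b, (I b).map (r a b).toRingHom = W.ideal ⟨a.1.1 ⊓ b.1.1, hV2 a b⟩ := fun a b =>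
      W.map_ideal (U := ⟨_, hV2 a b⟩) (V := b.1) (show a.1.1 ⊓ b.1.1 ≤ b.1.1 from inf_le_right)
    have hOV : ∀ O : P.Opens, O ≤ π ⁻¹ᵁ U → O ≤ (π ≫ p) ⁻¹ᵁ V := fun O h =>
      h.trans (π.preimage_mono hUV)
    have hflat : ∀ a, Module.Flat Γ(S, V) (Γ(P, a.1.1) ⧸ I a) := fun a =>
      flat_quotient p π W hV a.1.2 (hOV _ (hle a)) (by
        rw [← Scheme.Hom.appLE_comp_appLE π p V U a.1.1 hUV (hle a)]; rfl)
    have hflatD : ∀ a b, Module.Flat Γ(S, V) (Γ(P, a.1.1 ⊓ b.1.1) ⧸ (I a).map (l a b).toRingHom) := fun a b => by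
      rw [hl a b]
      exact flat_quotient p π W hV (hV2 a b) (hOV _ (hle2 a b)) (by
        rw [← Scheme.Hom.appLE_comp_appLE π p V U (a.1.1 ⊓ b.1.1) hUV (hle2 a b)]; rfl)
    let nil : Ideal Γ(S, V) := nilradical Γ(S, V)
    have hnilS : S.nilradical.ideal ⟨V, hV⟩ = nil := by
      rw [← Scheme.IdealSheafData.radical_bot]; simp [nil, nilradical]
    have hZ : ∀ a : s, (Z₁.ideal ⟨U, hU⟩).map (algebraMap Γ(X, U) Γ(P, a.1.1)) =
        I a ⊔ nil.map (algebraMap Γ(S, V) Γ(P, a.1.1)) := by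
      intro a
      have h1 := congrArg (fun K : P.IdealSheafData => K.ideal a.1) hZ₁
      simp only [IdealSheafData.ideal_sup, Pi.sup_apply] at h1
      rw [BlowUp.ideal_comap_eq_map Z₁ π ⟨U, hU⟩ a.1 (hle a),
        BlowUp.ideal_comap_eq_map S.nilradical (π ≫ p) ⟨V, hV⟩ a.1 (hOV _ (hle a)), hnilS,
        ← Scheme.Hom.appLE_comp_appLE π p V U a.1.1 hUV (hle a)] at h1
      exact h1
    let F := {N : Ideal Γ(S, V) // N.FG ∧ N ≤ nil}
    haveI : Nonempty F := ⟨⟨⊥, Submodule.fg_bot, bot_le⟩⟩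
    have hmono : Monotone fun N : F => inter (B := Γ(X, U)) I N.1 := fun N N' h =>
      iInf_mono fun a => Ideal.comap_mono (sup_le_sup_left (Ideal.map_mono h) _)
    let sp : ∀ ν ∈ nil, F := fun ν hν => ⟨Ideal.span {ν}, Submodule.fg_span_singleton ν,
      (Ideal.span_singleton_le_iff_mem _).2 hν⟩
    let sup2 : F → F → F := fun N N' => ⟨N.1 ⊔ N'.1, Submodule.FG.sup N.2.1 N'.2.1, sup_le N.2.2 N'.2.2⟩
    have hex : ∀ (a : s) (z : Γ(P, a.1.1)), z ∈ nil.map (algebraMap Γ(S, V) Γ(P, a.1.1)) →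
        ∃ N : F, z ∈ N.1.map (algebraMap Γ(S, V) Γ(P, a.1.1)) := by
      intro a z hz
      rw [Ideal.map] at hz
      induction hz using Submodule.span_induction with
      | mem z hz =>
        obtain ⟨ν, hν, rfl⟩ := hz
        exact ⟨sp ν hν, Ideal.mem_map_of_mem _ (Ideal.subset_span rfl)⟩
      | zero => exact ⟨⟨⊥, Submodule.fg_bot, bot_le⟩, zero_mem _⟩
      | add y z _ _ hy hz =>
        obtain ⟨N, hN⟩ := hy; obtain ⟨N', hN'⟩ := hz
        exact ⟨sup2 N N', add_mem (Ideal.map_mono (le_sup_left : N.1 ≤ _) hN)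
          (Ideal.map_mono (le_sup_right : N'.1 ≤ N.1 ⊔ N'.1) hN')⟩
      | smul c z _ hz => obtain ⟨N, hN⟩ := hz; exact ⟨N, Submodule.smul_mem _ c hN⟩
    have hJ00 : Z₁.ideal ⟨U, hU⟩ ≤ ⨆ N : F, inter (B := Γ(X, U)) I N.1 := by
      intro j hj
      have h0 : ∀ a : s, ∃ N : F, algebraMap Γ(X, U) Γ(P, a.1.1) j ∈ I a ⊔ N.1.map (algebraMap Γ(S, V) Γ(P, a.1.1)) := by
        intro a
        have h1 := Ideal.mem_map_of_mem (algebraMap Γ(X, U) Γ(P, a.1.1)) hj
        rw [hZ a] at h1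
        obtain ⟨i, hi, z, hz, hiz⟩ := Submodule.mem_sup.1 h1
        obtain ⟨N, hN⟩ := hex a z hz
        exact ⟨N, hiz ▸ Submodule.add_mem_sup hi hN⟩
      choose N hN using h0
      haveI := Fintype.ofFinite s
      let N₀ : F := ⟨Finset.univ.sup fun a => (N a).1,
        Finset.sup_induction Submodule.fg_bot (p := fun J : Ideal Γ(S, V) => J.FG) (fun _ h _ h' => Submodule.FG.sup h h') (fun a _ => (N a).2.1),
        Finset.sup_le fun a _ => (N a).2.2⟩
      exact Ideal.mem_iSup_of_mem N₀ (Ideal.mem_iInf.2 fun a =>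
        (sup_le_sup_left (Ideal.map_mono (Finset.le_sup (f := fun a => (N a).1) (Finset.mem_univ a))) (I a) : _ ≤ I a ⊔ N₀.1.map _) (hN a))
    have hnilJ : nil.map (algebraMap Γ(S, V) Γ(X, U)) ≤ ⨆ N : F, inter (B := Γ(X, U)) I N.1 := by
      refine Ideal.map_le_iff_le_comap.2 fun ν hν => Ideal.mem_iSup_of_mem (sp ν hν) (Ideal.mem_iInf.2 fun a => ?_)
      rw [Ideal.mem_comap, ← IsScalarTower.algebraMap_apply]
      exact Ideal.mem_sup_right (Ideal.mem_map_of_mem _ (Ideal.subset_span rfl))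
    have hIa : ∀ a : s, ∃ N : F, I a ≤ (inter (B := Γ(X, U)) I N.1).map (algebraMap Γ(X, U) Γ(P, a.1.1)) := by
      intro a
      have h1 : I a ≤ ⨆ N : F, (inter (B := Γ(X, U)) I N.1).map (algebraMap Γ(X, U) Γ(P, a.1.1)) := by
        rw [← Ideal.map_iSup]
        refine le_sup_left.trans ((hZ a).ge.trans (Ideal.map_mono hJ00))
      have hfg : (I a).FG := fg_ideal p π W a.1.2
      obtain ⟨t, ht⟩ := hfg
      have hdir : Directed (· ≤ ·) fun N : F =>
          (inter (B := Γ(X, U)) I N.1).map (algebraMap Γ(X, U) Γ(P, a.1.1)) := fun N N' =>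
        ⟨sup2 N N', Ideal.map_mono (hmono (show N.1 ≤ N.1 ⊔ N'.1 from le_sup_left)),
          Ideal.map_mono (hmono (show N'.1 ≤ N.1 ⊔ N'.1 from le_sup_right))⟩
      have ht' : ∀ z ∈ t, ∃ N : F, z ∈ (inter (B := Γ(X, U)) I N.1).map (algebraMap Γ(X, U) Γ(P, a.1.1)) :=
        fun z hz => (Submodule.mem_iSup_of_directed _ hdir).1 (h1 (ht ▸ Submodule.subset_span hz))
      choose N hN using ht'
      let N₀ : F := ⟨t.attach.sup fun z => (N z.1 z.2).1,
        Finset.sup_induction (p := fun J : Ideal Γ(S, V) => J.FG) Submodule.fg_bot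
          (fun _ h _ h' => Submodule.FG.sup h h') (fun z _ => (N z.1 z.2).2.1),
        Finset.sup_le fun z _ => (N z.1 z.2).2.2⟩
      refine ⟨N₀, ht ▸ Submodule.span_le.2 fun z hz => ?_⟩
      exact Ideal.map_mono (hmono (show (N z hz).1 ≤ N₀.1 from
        Finset.le_sup (f := fun z : {z // z ∈ t} => (N z.1 z.2).1) (Finset.mem_attach t ⟨z, hz⟩))) (hN z hz)
    choose N hN using hIa
    haveI := Fintype.ofFinite s
    let N₀ : F := ⟨Finset.univ.sup fun a => (N a).1,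
      Finset.sup_induction Submodule.fg_bot (p := fun J : Ideal Γ(S, V) => J.FG) (fun _ h _ h' => Submodule.FG.sup h h') (fun a _ => (N a).2.1),
      Finset.sup_le fun a _ => (N a).2.2⟩
    have hN0 : ∀ a : s, I a ≤ (inter (B := Γ(X, U)) I N₀.1).map (algebraMap Γ(X, U) Γ(P, a.1.1)) := fun a =>
      (hN a).trans (Ideal.map_mono (hmono (show N a ≤ N₀ from
        Finset.le_sup (f := fun a => (N a).1) (Finset.mem_univ a))))
    have hnilp : IsNilpotent N₀.1 := by
      obtain ⟨n, hn⟩ := Ideal.exists_pow_le_of_le_radical_of_fg (J := (⊥ : Ideal Γ(S, V))) N₀.2.2 N₀.2.1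
      exact ⟨n, le_bot_iff.1 hn⟩
    have key := le_map_inter_bot l r I
      (fun M _ _ m hm => exists_eq_of_compatible π hU (fun a : s => a.1.1) (fun a => a.1.2) hle hcov M m hm)
      (fun a b => (hl a b).trans (hr a b).symm) hflat hflatD N₀.1 hnilp hN0 a₀
    refine key.trans ?_
    rw [BlowUp.ideal_comap_eq_map (W.map π) π ⟨U, hU⟩ a₀.1 (hle a₀)]
    refine Ideal.map_mono fun b hb => ?_
    show b ∈ (W.subschemeι ≫ π).ker.ideal ⟨U, hU⟩
    rw [Scheme.Hom.ker_apply, RingHom.mem_ker]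
    refine W.subscheme.sheaf.eq_of_locally_eq' (fun a : s => W.subschemeι ⁻¹ᵁ a.1.1) _
      (fun a => homOfLE (W.subschemeι.preimage_mono (hle a)))
      (le_trans (W.subschemeι.preimage_mono hcov) (le_of_eq (Scheme.Hom.preimage_iSup _ _))) _ _ fun a => ?_
    have hba : algebraMap Γ(X, U) Γ(P, a.1.1) b ∈ I a := by
      simpa using (Ideal.mem_iInf.1 hb) a
    erw [map_zero]
    have h2 : (W.subschemeι.app a.1.1) (π.appLE U a.1.1 (hle a) b) = 0 := by
      have h3 : RingHom.ker (W.subschemeι.app a.1.1).hom = W.ideal a.1 := W.ker_subschemeι_app a.1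
      exact RingHom.mem_ker.1 (h3.ge hba)
    refine Eq.trans ?_ h2
    have h4 : (W.subschemeι ≫ π).app U ≫ W.subscheme.presheaf.map (homOfLE (W.subschemeι.preimage_mono (hle a))).op =
        π.appLE U a.1.1 (hle a) ≫ W.subschemeι.app a.1.1 := by
      rw [Scheme.Hom.app_eq_appLE, Scheme.Hom.appLE_map, W.subschemeι.app_eq_appLE, Scheme.Hom.appLE_comp_appLE]
    exact ConcreteCategory.congr_hom h4 b
  choose O hxO hO using hloc
  exact IdealSheafData.le_of_iSup_eq_top O (top_unique fun x _ => Opens.mem_iSup.2 ⟨x, hxO x⟩) hO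

end Closed

end GrothLib.FamDesc6
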